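import Groth.Prelude.Def_AlgGrp
import Mathlib.AlgebraicGeometry.Morphisms.LocalFlatDescent
import Mathlib.AlgebraicGeometry.Morphisms.FlatDescent
import Mathlib.AlgebraicGeometry.Artinian
import Mathlib.AlgebraicGeometry.Morphisms.UniversallyInjective
import Mathlib.AlgebraicGeometry.Morphisms.Finite
import Mathlib.AlgebraicGeometry.Morphisms.QuasiFinite
import Mathlib.Topology.Separation.Connected

/-! A homomorphism is fppf-locally the projection from the product with its kernel. -/

set_option autoImplicit false
universe u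

open CategoryTheory Limits MonoidalCategory CartesianMonoidalCategory MonObj GrpObj AlgebraicGeometry

namespace Groth.Agent.IsogKer97

variable {S : Scheme.{u}} {X Y N : Over S} [GrpObj X] [GrpObj Y] (f : X ⟶ Y) [IsMonHom f] (i : N ⟶ X)

theorem whisker_mul : (X ◁ i) ≫ μ[X] = fst X N * (snd X N ≫ i) := by
  rw [Hom.mul_def]
  congr 1

theorem isPullback_shear (hN : AlgGrp.IsKernel i f) :
    IsPullback (fst X N) ((X ◁ i) ≫ μ[X]) f f := by
  rw [whisker_mul]
  have h1 : i ≫ f = 1 := by rw [hN.w]; exact (Subsingleton.elim (toUnit N) _) ▸ rfl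
  refine IsPullback.of_isLimit' ⟨?_⟩ (PullbackCone.isLimitAux' _ fun s => ?_)
  · rw [MonObj.mul_comp, Category.assoc, h1]
    simp
  have hc : (s.fst⁻¹ * s.snd) ≫ f = toUnit s.pt ≫ η[Y] := by
    rw [MonObj.mul_comp, GrpObj.inv_comp, s.condition, inv_mul_cancel]
    rfl
  let n := hN.lift (s.fst⁻¹ * s.snd) (toUnit s.pt) hc
  refine ⟨lift s.fst n, ?_, ?_, fun {m} hm1 hm2 => ?_⟩
  · exact lift_fst _ _
  · show lift s.fst n ≫ (fst X N * (snd X N ≫ i)) = s.snd
    rw [MonObj.comp_mul, lift_fst, lift_snd_assoc, hN.lift_fst, mul_inv_cancel_left]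
  · obtain ⟨m, rfl⟩ : ∃ m' : s.pt ⟶ X ⊗ N, m' = m := ⟨m, rfl⟩
    have hm1' : m ≫ fst X N = s.fst := hm1
    have hm2' : m ≫ (fst X N * (snd X N ≫ i)) = s.snd := hm2
    rw [MonObj.comp_mul, hm1'] at hm2'
    apply CartesianMonoidalCategory.hom_ext
    · rw [lift_fst, hm1']
    · rw [lift_snd]
      apply hN.hom_ext
      · rw [hN.lift_fst, Category.assoc, ← hm2', inv_mul_cancel_left]
      · exact Subsingleton.elim _ _

theorem isPullback_left (hN : AlgGrp.IsKernel i f) :
    IsPullback (fst X N).left ((X ◁ i) ≫ μ[X]).left f.left f.left :=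
  (isPullback_shear f i hN).map (Over.forget S)

theorem isPullback_fst_left : IsPullback (fst X N).left (snd X N).left X.hom N.hom :=
  IsPullback.of_hasPullback _ _

theorem isPullback_kernel_left (hN : AlgGrp.IsKernel i f) :
    IsPullback i.left N.hom f.left η[Y].left := by
  have h := (hN : IsPullback i (toUnit N) f η[Y]).map (Over.forget S)
  simpa using h

variable {P : MorphismProperty Scheme.{u}} [P.IsStableUnderBaseChange]
  [P.DescendsAlong (@Surjective ⊓ @Flat ⊓ @QuasiCompact)]

theorem iff_kernel (hN : AlgGrp.IsKernel i f) [Surjective f.left] [Flat f.left] [QuasiCompact f.left] :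
    P f.left ↔ P N.hom := by
  refine ⟨fun h => MorphismProperty.of_isPullback (isPullback_kernel_left f i hN).flip.flip h, fun h => ?_⟩
  have h1 : P (fst X N).left := MorphismProperty.of_isPullback (isPullback_fst_left).flip h
  exact MorphismProperty.of_isPullback_of_descendsAlong (Q := @Surjective ⊓ @Flat ⊓ @QuasiCompact)
    (isPullback_left f i hN) ⟨⟨inferInstance, inferInstance⟩, inferInstance⟩ h1

/-- A finite scheme over a field with a rational point is connected iff it is radicial over the field. -/
theorem universallyInjective_iff_connected {k : Type u} [Field k] {Z : Scheme.{u}}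
    (p : Z ⟶ Spec (CommRingCat.of k)) [IsFinite p] (e : Spec (CommRingCat.of k) ⟶ Z) (he : e ≫ p = 𝟙 _) :
    UniversallyInjective p ↔ ConnectedSpace ↥Z := by
  have : Nonempty Z := ⟨e default⟩
  constructor
  · intro h
    have : Subsingleton Z := ⟨fun a b => p.injective (Subsingleton.elim _ _)⟩
    exact { toPreconnectedSpace := ⟨Set.subsingleton_of_subsingleton.isPreconnected⟩, toNonempty := inferInstance }
  · intro h
    have : IsArtinianRing (CommRingCat.of k) := inferInstanceAs (IsArtinianRing k)
    have : IsLocallyArtinian (Spec (CommRingCat.of k)) := Scheme.isLocallyArtinianScheme_Spec.2 this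
    have : IsLocallyArtinian Z := IsLocallyArtinian.of_locallyQuasiFinite p
    have : DiscreteTopology Z := inferInstance
    have : Subsingleton Z := PreconnectedSpace.trivial_of_discrete
    have hsurj : Surjective e := ⟨fun z => ⟨default, Subsingleton.elim _ _⟩⟩
    have hcl : IsClosedImmersion e := by
      have : IsClosedImmersion (e ≫ p) := he ▸ inferInstance
      exact IsClosedImmersion.of_comp e p
    have hfac : ∀ (K : Type u) [Field K] (g : Spec (CommRingCat.of K) ⟶ Z), g = g ≫ p ≫ e := by
      intro K _ g
      have h1 : IsClosedImmersion (pullback.snd e g) := MorphismProperty.pullback_snd e g hcl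
      have h2 : Surjective (pullback.snd e g) := MorphismProperty.pullback_snd e g hsurj
      have : IsIso (pullback.snd e g) := isIso_of_isClosedImmersion_of_surjective _
      have h3 : g = (inv (pullback.snd e g) ≫ pullback.fst e g) ≫ e := by
        rw [Category.assoc, pullback.condition, IsIso.inv_hom_id_assoc]
      conv_rhs => rw [h3]
      simp only [Category.assoc, reassoc_of% he]
      rw [← Category.assoc]
      exact h3
    refine ((tfae_universallyInjective p).out 0 1 rfl rfl).2 fun K _ g₁ g₂ hg => ?_
    rw [hfac K g₁, hfac K g₂, ← Category.assoc, ← Category.assoc]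
    exact congrArg (· ≫ e) hg

end Groth.Agent.IsogKer97
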